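import Groth.Agent.ArtinApx.K953.EtaleApprox

/-!
Artin approximation by étale neighbourhoods, with the map of the neighbourhood to the whole completion (helper724).
-/

set_option autoImplicit false
universe u

open IsLocalRing Groth.Agent.Hensel.Lazard

namespace K724.EtApprox

open K953.EtaleApprox

variable {A : Type u} [CommRing A] (m : Ideal A) [m.IsMaximal]

/-- Artin approximation by étale neighbourhoods. -/
theorem exists_etale_approx (hG : CAlg.IsGRing A) {B : Type u} [CommRing B] [Algebra A B]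
    [Algebra.FinitePresentation A B] (φ : B →ₐ[A] AdicCompletion m A) (N : ℕ) :
    ∃ (E : Type u) (_ : CommRing E) (_ : Algebra A E) (_ : Algebra.Etale A E)
      (α : B →ₐ[A] E) (θ : E →ₐ[A] AdicCompletion m A),
      ∀ x, AdicCompletion.evalₐ m N (θ (α x)) = AdicCompletion.evalₐ m N (φ x) := by
  obtain ⟨S, _, _, _, _, _, _, hH, hL, -⟩ := Groth.Agent.Vancyc.H694.CommonEt.exists_hull_localization m
  have hGL : CAlg.IsGRing (Localization.AtPrime m) :=
    Groth.Agent.Ega4B.GRingLoc.isGRing_of_isLocalization A (Localization.AtPrime m) m.primeCompl hG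
  have hN : IsNoetherianRing A := hG.1
  have hNL : IsNoetherianRing (Localization.AtPrime m) := hGL.1
  have hGS : CAlg.IsGRing S := Groth.Agent.S2045.result hGL
  have hens : HenselianLocalRing S := hH.henselian
  obtain ⟨b', hb'⟩ := exists_approx_mod hGS ((cmap m S).comp φ.toRingHom) (by
    refine RingHom.ext fun r => ?_
    apply AdicCompletion.ext_evalₐ
    intro n
    change AdicCompletion.evalₐ (maximalIdeal S) n (cmap m S (φ (algebraMap A B r))) = 
      AdicCompletion.evalₐ (maximalIdeal S) n (algebraMap S _ (algebraMap A S r))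
    rw [evalₐ_cmap, φ.commutes, AlgHom.commutes, AlgHom.commutes, AlgHom.commutes]
    rfl) N
  obtain ⟨E, _, _, _, α, χ, hχ⟩ := hL B b'
  let e : ∀ n, (A ⧸ m ^ n) ≃ₐ[A] (S ⧸ maximalIdeal S ^ n) := fun n =>
    AlgEquiv.ofBijective (qmap m S n) (qmap_bijective m S n)
  let f : ∀ n, E →ₐ[A] A ⧸ m ^ n := fun n =>
    (e n).symm.toAlgHom.comp ((Ideal.Quotient.mkₐ A (maximalIdeal S ^ n)).comp χ)
  have hf : ∀ {k n : ℕ} (hle : k ≤ n),
      (Ideal.Quotient.factorₐ A (Ideal.pow_le_pow_right hle)).comp (f n) = f k := by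
    intro k n hle
    ext x
    have hIJ : m ^ n ≤ m ^ k := Ideal.pow_le_pow_right hle
    change Ideal.Quotient.factorₐ A hIJ ((e n).symm (Ideal.Quotient.mk _ (χ x))) = (e k).symm (Ideal.Quotient.mk _ (χ x))
    rw [AlgEquiv.eq_symm_apply]
    obtain ⟨y, hy⟩ := Ideal.Quotient.mk_surjective ((e n).symm (Ideal.Quotient.mk _ (χ x)))
    rw [← hy]
    rw [AlgEquiv.eq_symm_apply] at hy
    have h1 : Ideal.Quotient.mk (maximalIdeal S ^ n) (algebraMap A S y) = Ideal.Quotient.mk _ (χ x) := hy
    change Ideal.Quotient.mk (maximalIdeal S ^ k) (algebraMap A S y) = Ideal.Quotient.mk _ (χ x)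
    rw [Ideal.Quotient.eq] at h1 ⊢
    exact Ideal.pow_le_pow_right hle h1
  refine ⟨E, inferInstance, inferInstance, inferInstance, α, AdicCompletion.liftAlgHom m f hf, ?_⟩
  intro x
  rw [AdicCompletion.evalₐ_liftAlgHom]
  change (e N).symm (Ideal.Quotient.mk _ (χ (α x))) = AdicCompletion.evalₐ m N (φ x)
  rw [AlgEquiv.symm_apply_eq]
  have h1 : χ (α x) = b' x := congr($hχ x)
  rw [h1, hb']
  exact evalₐ_cmap m S N (φ x)

end K724.EtApprox
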