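import Groth.Agent.Algz.K724.Approx0
import Groth.Agent.Algz.K724.EtApprox
import Groth.Agent.Gaga.H987.StalkGRing

/-!
Approximation of a complete local algebra with a map from a finitely presented algebra, with isomorphic associated
graded ring (Conrad–de Jong) (helper724).
-/

set_option autoImplicit false
universe u v w

namespace K724.Approx

open IsLocalRing K724.EtNbd AssocGr K724.ArtinRees

lemma mem_pow_smul_top {P : Type u} [CommRing P] (I : Ideal P) {r : ℕ} (v : Fin r → P) (h : ∀ l, v l ∈ I) :
    v ∈ I • (⊤ : Submodule P (Fin r → P)) := by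
  classical
  have e : v = ∑ l, v l • (Pi.single l 1 : Fin r → P) := by
    funext j
    simp [Pi.single_apply]
  rw [e]
  exact Submodule.sum_mem _ fun l _ => Submodule.smul_mem_smul (h l) Submodule.mem_top

section Core

variable {A : Type u} [CommRing A] [IsNoetherianRing A] (m : Ideal A) {E : Type v} [CommRing E] [Algebra A E]
  [Algebra.FormallyUnramified A E] (θ : E →ₐ[A] AdicCompletion m A) {r s : ℕ}

/-- The comparison of initial ideals, in terms of generators. -/
lemma core (fe : Fin r → AdicCompletion m A) (Me : Fin s → Fin r → AdicCompletion m A) {c : ℕ}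
    (h1 : AR (m.map (algebraMap A (AdicCompletion m A))) c (Fintype.linearCombination (AdicCompletion m A) fe))
    (h2 : AR (m.map (algebraMap A (AdicCompletion m A))) c (Fintype.linearCombination (AdicCompletion m A) Me))
    (hex : LinearMap.ker (Fintype.linearCombination (AdicCompletion m A) fe) ≤
      LinearMap.range (Fintype.linearCombination (AdicCompletion m A) Me))
    (fE : Fin r → E) (ME : Fin s → Fin r → E) (hz : ∀ q, ∑ l, ME q l * fE l = 0)
    (hf : ∀ l, θ (fE l) - fe l ∈ hat m (c + 1)) (hM : ∀ q l, θ (ME q l) - Me q l ∈ hat m (c + 1))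
    (n : ℕ) (a : A) (ha : a ∈ m ^ n) :
    algebraMap A (AdicCompletion m A) a ∈ hat m (n + 1) ⊔ Ideal.span (Set.range fe) ↔
      algebraMap A (AdicCompletion m A) a ∈ hat m (n + 1) ⊔ Ideal.span (Set.range fun l => θ (fE l)) := by
  have hfg : m.FG := IsNoetherian.noetherian _
  have hhat := Pres.hat_eq_pow m hfg
  have e1 : Ideal.span (Set.range fe) = LinearMap.range (Fintype.linearCombination (AdicCompletion m A) fe) := by
    rw [Fintype.range_linearCombination]
  have e2 : Ideal.span (Set.range fun l => θ (fE l)) =
      LinearMap.range (Fintype.linearCombination (AdicCompletion m A) fun l => θ (fE l)) := by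
    rw [Fintype.range_linearCombination]
  rw [sup_comm, sup_comm (hat m (n + 1)), e1, e2, hhat]
  refine mem_iff (m := m.map (algebraMap A (AdicCompletion m A))) h1 h2 hex
    (M' := Fintype.linearCombination (AdicCompletion m A) fun q l => θ (ME q l)) ?_ ?_ ?_ n _ ?_
  · apply LinearMap.ext
    intro w
    rw [LinearMap.comp_apply, LinearMap.zero_apply]
    change Fintype.linearCombination (AdicCompletion m A) (fun l => θ (fE l))
      (∑ q, w q • fun l => θ (ME q l)) = 0
    rw [map_sum]
    refine Finset.sum_eq_zero fun q _ => ?_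
    rw [map_smul, Fintype.linearCombination_apply]
    have : ∑ l, θ (ME q l) • θ (fE l) = 0 := by
      have h3 := congrArg θ (hz q)
      rw [map_sum, map_zero] at h3
      rw [← h3]
      refine Finset.sum_congr rfl fun l _ => ?_
      rw [map_mul, smul_eq_mul]
    rw [this, smul_zero]
  · intro u
    rw [LinearMap.sub_apply, Fintype.linearCombination_apply, Fintype.linearCombination_apply, ← Finset.sum_sub_distrib]
    refine Ideal.sum_mem _ fun l _ => ?_
    rw [← smul_sub, smul_eq_mul, ← hhat]
    exact Ideal.mul_mem_left _ _ (hf l)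
  · intro w
    rw [LinearMap.sub_apply, Fintype.linearCombination_apply, Fintype.linearCombination_apply, ← Finset.sum_sub_distrib]
    refine Submodule.sum_mem _ fun q _ => ?_
    rw [← smul_sub]
    refine Submodule.smul_mem _ _ (mem_pow_smul_top _ _ fun l => ?_)
    rw [← hhat]
    exact hM q l
  · rw [← hhat, algebraMap_mem_hat]
    exact ha

/-- Congruent generators give the same ideal modulo `hat m n`. -/
lemma sup_eq_of_congr (fe fe' : Fin r → AdicCompletion m A) (n : ℕ) (h : ∀ l, fe' l - fe l ∈ hat m n) :
    hat m n ⊔ Ideal.span (Set.range fe) = hat m n ⊔ Ideal.span (Set.range fe') := by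
  apply le_antisymm
  · refine sup_le le_sup_left ?_
    rw [Ideal.span_le]
    rintro _ ⟨l, rfl⟩
    have e : fe l = -(fe' l - fe l) + fe' l := by ring
    change fe l ∈ _
    rw [e]
    exact Ideal.add_mem _ (Ideal.mem_sup_left (Ideal.neg_mem_iff _ |>.2 (h l)))
      (Ideal.mem_sup_right (Ideal.subset_span ⟨l, rfl⟩))
  · refine sup_le le_sup_left ?_
    rw [Ideal.span_le]
    rintro _ ⟨l, rfl⟩
    have e : fe' l = (fe' l - fe l) + fe l := by ring
    change fe' l ∈ _
    rw [e]
    exact Ideal.add_mem _ (Ideal.mem_sup_left (h l)) (Ideal.mem_sup_right (Ideal.subset_span ⟨l, rfl⟩))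

end Core

end K724.Approx
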