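import Mathlib.RingTheory.Filtration
import Mathlib.RingTheory.Noetherian.Basic
import Mathlib.LinearAlgebra.Quotient.Basic

/-!
Approximating a presentation together with its syzygies does not change the initial ideal (Conrad–de Jong) (helper724).
-/

set_option autoImplicit false
universe u v w

namespace K724.ArtinRees

variable {P : Type u} [CommRing P] (m : Ideal P)

section Basic

variable {L : Type v} {L' : Type w} [AddCommGroup L] [Module P L] [AddCommGroup L'] [Module P L']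

lemma map_mem_pow {g : L →ₗ[P] L'} {c : ℕ} (hg : ∀ u, g u ∈ m ^ c • (⊤ : Submodule P L')) {j : ℕ} {u : L}
    (hu : u ∈ m ^ j • (⊤ : Submodule P L)) : g u ∈ m ^ (j + c) • (⊤ : Submodule P L') := by
  have h1 : (m ^ j • (⊤ : Submodule P L)).map g ≤ m ^ (j + c) • (⊤ : Submodule P L') := by
    rw [Submodule.map_smul'', pow_add, mul_smul]
    refine smul_mono_right _ ?_
    rintro _ ⟨x, -, rfl⟩
    exact hg x
  exact h1 ⟨u, hu, rfl⟩

lemma pow_smul_le {i j : ℕ} (h : i ≤ j) : m ^ j • (⊤ : Submodule P L) ≤ m ^ i • (⊤ : Submodule P L) :=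
  Submodule.smul_mono_left (Ideal.pow_le_pow_right h)

/-- The Artin–Rees property of a linear map. -/
def AR (c : ℕ) (g : L →ₗ[P] L') : Prop :=
  ∀ (n : ℕ) (u : L), g u ∈ m ^ n • (⊤ : Submodule P L') → ∃ v ∈ m ^ (n - c) • (⊤ : Submodule P L), g v = g u

lemma AR.mono {c c' : ℕ} {g : L →ₗ[P] L'} (h : AR m c g) (hc : c ≤ c') : AR m c' g := fun n u hu => by
  obtain ⟨v, hv, h'⟩ := h n u hu
  exact ⟨v, pow_smul_le m (Nat.sub_le_sub_left hc n) hv, h'⟩

lemma exists_AR [IsNoetherianRing P] [Module.Finite P L'] (g : L →ₗ[P] L') : ∃ c, AR m c g := by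
  obtain ⟨c, hc⟩ := Ideal.exists_pow_inf_eq_pow_smul m (LinearMap.range g)
  refine ⟨c, fun n u hu => ?_⟩
  rcases le_or_gt c n with h | h
  · have h1 : g u ∈ m ^ n • (⊤ : Submodule P L') ⊓ LinearMap.range g := ⟨hu, ⟨u, rfl⟩⟩
    rw [hc n h] at h1
    have h2 : m ^ (n - c) • (m ^ c • (⊤ : Submodule P L') ⊓ LinearMap.range g) ≤
        (m ^ (n - c) • (⊤ : Submodule P L)).map g := by
      rw [Submodule.map_smul'', Submodule.map_top]
      exact smul_mono_right _ inf_le_right
    exact h2 h1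
  · refine ⟨u, ?_, rfl⟩
    rw [Nat.sub_eq_zero_of_le h.le, pow_zero, Ideal.one_eq_top, Submodule.top_smul]
    exact Submodule.mem_top

end Basic

variable {L₁ : Type v} {L₂ : Type w} [AddCommGroup L₁] [Module P L₁] [AddCommGroup L₂] [Module P L₂]

lemma smul_top_eq (n : ℕ) : m ^ n • (⊤ : Submodule P P) = m ^ n := by
  rw [smul_eq_mul, Ideal.mul_top]

/-- The comparison of initial ideals. -/
theorem mem_iff {c : ℕ} {f f' : L₁ →ₗ[P] P} {M M' : L₂ →ₗ[P] L₁} (h1 : AR m c f) (h2 : AR m c M)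
    (hex : LinearMap.ker f ≤ LinearMap.range M) (hc : f' ∘ₗ M' = 0)
    (hf : ∀ u, (f' - f) u ∈ m ^ (c + 1)) (hM : ∀ w, (M' - M) w ∈ m ^ (c + 1) • (⊤ : Submodule P L₁))
    (n : ℕ) (a : P) (ha : a ∈ m ^ n) :
    (a ∈ LinearMap.range f ⊔ m ^ (n + 1) ↔ a ∈ LinearMap.range f' ⊔ m ^ (n + 1)) := by
  have hf' : ∀ u, (f' - f) u ∈ m ^ (c + 1) • (⊤ : Submodule P P) := fun u => by
    rw [smul_top_eq]; exact hf u
  have key : ∀ {j : ℕ} {u : L₁}, u ∈ m ^ j • (⊤ : Submodule P L₁) → (f' - f) u ∈ m ^ (j + (c + 1)) := by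
    intro j u hu
    have := map_mem_pow m hf' hu
    rwa [smul_top_eq] at this
  constructor
  · intro h
    obtain ⟨_, ⟨u, rfl⟩, b, hb, rfl⟩ := Submodule.mem_sup.1 h
    have h3 : f u ∈ m ^ n := by
      have := (m ^ n).sub_mem ha (Ideal.pow_le_pow_right (Nat.le_succ n) hb)
      rwa [add_sub_cancel_right] at this
    obtain ⟨v, hv, hvu⟩ := h1 n u (by rw [smul_top_eq]; exact h3)
    refine Submodule.mem_sup.2 ⟨f' v, ⟨v, rfl⟩, b - (f' - f) v, ?_, ?_⟩
    · refine (m ^ (n + 1)).sub_mem hb (Ideal.pow_le_pow_right (by omega) (key hv))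
    · rw [LinearMap.sub_apply, hvu]
      ring
  · intro h
    obtain ⟨_, ⟨u, rfl⟩, b, hb, rfl⟩ := Submodule.mem_sup.1 h
    have h3 : f' u ∈ m ^ n := by
      have := (m ^ n).sub_mem ha (Ideal.pow_le_pow_right (Nat.le_succ n) hb)
      rwa [add_sub_cancel_right] at this
    have h4 : ∀ j, j ≤ n - c → ∃ u' ∈ m ^ j • (⊤ : Submodule P L₁), f' u' = f' u := by
      intro j
      induction j with
      | zero =>
        intro _
        refine ⟨u, ?_, rfl⟩
        rw [pow_zero, Ideal.one_eq_top, Submodule.top_smul]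
        exact Submodule.mem_top
      | succ j ih =>
        intro hj
        obtain ⟨u', hu', hu''⟩ := ih (by omega)
        have h5 : f u' ∈ m ^ (j + 1 + c) := by
          have e : f u' = f' u' - (f' - f) u' := by rw [LinearMap.sub_apply]; ring
          rw [e, hu'']
          refine (m ^ (j + 1 + c)).sub_mem (Ideal.pow_le_pow_right (by omega) h3) ?_
          exact Ideal.pow_le_pow_right (by omega) (key hu')
        obtain ⟨v, hv, hvu⟩ := h1 (j + 1 + c) u' (by rw [smul_top_eq]; exact h5)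
        rw [Nat.add_sub_cancel] at hv
        have h6 : u' - v ∈ LinearMap.ker f := by
          rw [LinearMap.mem_ker, map_sub, hvu, sub_self]
        obtain ⟨w, hw⟩ := hex h6
        have h7 : M w ∈ m ^ j • (⊤ : Submodule P L₁) := by
          rw [hw]
          exact Submodule.sub_mem _ hu' (pow_smul_le m (Nat.le_succ j) hv)
        obtain ⟨w', hw', hww⟩ := h2 j w h7
        refine ⟨v - (M' - M) w', ?_, ?_⟩
        · refine Submodule.sub_mem _ hv ?_
          exact pow_smul_le m (by omega) (map_mem_pow m hM hw')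
        · have h8 : f' (M' w') = 0 := LinearMap.congr_fun hc w'
          rw [map_sub, LinearMap.sub_apply, map_sub, h8, hww, hw, map_sub, hu'']
          ring
    obtain ⟨u', hu', hu''⟩ := h4 (n - c) le_rfl
    refine Submodule.mem_sup.2 ⟨f u', ⟨u', rfl⟩, b + (f' - f) u', ?_, ?_⟩
    · exact (m ^ (n + 1)).add_mem hb (Ideal.pow_le_pow_right (by omega) (key hu'))
    · rw [LinearMap.sub_apply, hu'']
      ring

end K724.ArtinRees
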