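import Groth.Prelude.Def_GrMap
import Mathlib.RingTheory.Ideal.Quotient.Operations

/-!
Isomorphism of associated graded rings of two rings under a common ring (helper724).
-/

set_option autoImplicit false
universe u v w

namespace K724.GrEquiv

open AssocGr

variable {A : Type u} {B : Type v} {C : Type w} [CommRing A] [CommRing B] [CommRing C]

lemma map_surjective {I : Ideal A} {J : Ideal B} {φ : A →+* B} (h : I.map φ ≤ J)
    (hs : ∀ (n : ℕ), ∀ b ∈ J ^ n, ∃ a ∈ I ^ n, b - φ a ∈ J ^ (n + 1)) :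
    Function.Surjective (map (IsFiltHom.adic h)) := by
  intro y
  obtain ⟨g, rfl⟩ := mkG_surjective _ y
  have h1 : ∀ n : ℕ, mkG _ (term _ g n) ∈ (map (IsFiltHom.adic h)).range := by
    intro n
    rw [mkG_term]
    obtain ⟨a, ha, hb⟩ := hs n _ (g.2 n)
    refine ⟨(inDeg (FiltBl.IdealFiltration.adic I) n ⟨a, ha⟩ : GrRing _), ?_⟩
    rw [map_inDeg]
    refine congrArg _ ?_
    rw [← sub_eq_zero, ← map_sub, inDeg_eq_zero_iff]
    have := (J ^ (n + 1)).neg_mem hb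
    rwa [neg_sub] at this
  rw [← sum_term _ g, map_sum]
  exact Subring.sum_mem _ fun n _ => h1 n

lemma mkG_mem_ker_iff {I : Ideal A} {J : Ideal B} {φ : A →+* B} (h : I.map φ ≤ J)
    (f : (FiltBl.IdealFiltration.adic I).rees) :
    mkG _ f ∈ RingHom.ker (map (IsFiltHom.adic h)) ↔ ∀ n, φ ((f : Polynomial A).coeff n) ∈ J ^ (n + 1) := by
  rw [RingHom.mem_ker, map_mkG, mkG_eq_zero_iff, mem_succIdeal_iff]
  refine forall_congr' fun n => ?_
  rw [coe_reesMap, Polynomial.coeff_map]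
  rfl

/-- Two rings under `A` with the same initial ideals have isomorphic associated graded rings. -/
theorem exists_equiv {I : Ideal A} {J : Ideal B} {K : Ideal C} {φ : A →+* B} {ψ : A →+* C}
    (hφ : I.map φ ≤ J) (hψ : I.map ψ ≤ K)
    (hsφ : ∀ (n : ℕ), ∀ b ∈ J ^ n, ∃ a ∈ I ^ n, b - φ a ∈ J ^ (n + 1))
    (hsψ : ∀ (n : ℕ), ∀ c ∈ K ^ n, ∃ a ∈ I ^ n, c - ψ a ∈ K ^ (n + 1))
    (hk : ∀ (n : ℕ), ∀ a ∈ I ^ n, (φ a ∈ J ^ (n + 1) ↔ ψ a ∈ K ^ (n + 1))) :
    ∃ e : GrRing (FiltBl.IdealFiltration.adic J) ≃+* GrRing (FiltBl.IdealFiltration.adic K),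
      ∀ x, e (map (IsFiltHom.adic hφ) x) = map (IsFiltHom.adic hψ) x := by
  have hker : RingHom.ker (map (IsFiltHom.adic hφ)) = RingHom.ker (map (IsFiltHom.adic hψ)) := by
    ext x
    obtain ⟨f, rfl⟩ := mkG_surjective _ x
    rw [mkG_mem_ker_iff hφ, mkG_mem_ker_iff hψ]
    exact forall_congr' fun n => hk n _ (f.2 n)
  let e₁ := RingHom.quotientKerEquivOfSurjective (map_surjective hφ hsφ)
  let e₂ := RingHom.quotientKerEquivOfSurjective (map_surjective hψ hsψ)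
  refine ⟨e₁.symm.trans ((Ideal.quotEquivOfEq hker).trans e₂), fun x => ?_⟩
  have h1 : e₁.symm (map (IsFiltHom.adic hφ) x) = Ideal.Quotient.mk _ x := by
    rw [RingEquiv.symm_apply_eq]
    rfl
  change e₂ (Ideal.quotEquivOfEq hker (e₁.symm _)) = _
  rw [h1]
  rfl

/-- The isomorphism respects the grading. -/
theorem mem_gr_of_equiv {I : Ideal A} {J : Ideal B} {K : Ideal C} {φ : A →+* B} {ψ : A →+* C}
    (hφ : I.map φ ≤ J) (hψ : I.map ψ ≤ K)
    (hsφ : ∀ (n : ℕ), ∀ b ∈ J ^ n, ∃ a ∈ I ^ n, b - φ a ∈ J ^ (n + 1))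
    (e : GrRing (FiltBl.IdealFiltration.adic J) ≃+* GrRing (FiltBl.IdealFiltration.adic K))
    (he : ∀ x, e (map (IsFiltHom.adic hφ) x) = map (IsFiltHom.adic hψ) x)
    (n : ℕ) (x : GrRing (FiltBl.IdealFiltration.adic J)) (hx : x ∈ gr _ n) : e x ∈ gr _ n := by
  obtain ⟨f, hf, rfl⟩ := (mem_gr_iff _ n x).1 hx
  have h2 : f = term _ f n := by
    rw [Rees.mem_deg_iff] at hf
    apply Subtype.ext
    rw [coe_term]
    ext i
    rw [Polynomial.coeff_monomial]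
    split_ifs with h
    · rw [h]
    · exact hf i (fun hh => h hh.symm)
  rw [h2, mkG_term]
  obtain ⟨a, ha, hb⟩ := hsφ n _ (f.2 n)
  have h3 : (inDeg (FiltBl.IdealFiltration.adic J) n ⟨_, f.2 n⟩ : GrRing _) =
      map (IsFiltHom.adic hφ) (inDeg (FiltBl.IdealFiltration.adic I) n ⟨a, ha⟩ : GrRing _) := by
    rw [map_inDeg]
    refine congrArg _ ?_
    rw [← sub_eq_zero, ← map_sub, inDeg_eq_zero_iff]
    exact hb
  rw [h3, he]
  exact map_mem_gr _ (Subtype.mem _)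

end K724.GrEquiv
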