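import Groth.Agent.Algz.K724.Pres
import Groth.Agent.Algz.K724.GrEquiv
import Groth.Agent.Algz.K724.ArtinRees
import Mathlib.RingTheory.Etale.Basic

/-!
Preparations for the approximation theorem (helper724).
-/

set_option autoImplicit false
universe u v w

namespace K724.Approx

open IsLocalRing K724.EtNbd AssocGr

section Alg

variable {k : Type*} [CommRing k] {T X Y : Type*} [CommRing T] [CommRing X] [CommRing Y] [Algebra k T] [Algebra k X]
  [Algebra k Y]

lemma exists_lift_of_surjective (u : T →ₐ[k] X) (hu : Function.Surjective u) (v : T →ₐ[k] Y)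
    (h : ∀ t, u t = 0 → v t = 0) : ∃ w : X →ₐ[k] Y, ∀ t, w (u t) = v t := by
  refine ⟨(Ideal.Quotient.liftₐ (RingHom.ker u) v h).comp
    (Ideal.quotientKerAlgEquivOfSurjective hu).symm.toAlgHom, fun t => ?_⟩
  have h1 : (Ideal.quotientKerAlgEquivOfSurjective hu).symm (u t) = Ideal.Quotient.mk _ t := by
    rw [AlgEquiv.symm_apply_eq]
    rfl
  change Ideal.Quotient.liftₐ (RingHom.ker u) v h ((Ideal.quotientKerAlgEquivOfSurjective hu).symm (u t)) = v t
  rw [h1]
  rfl

lemma exists_algEquiv (u : T →ₐ[k] X) (hu : Function.Surjective u) (v : T →ₐ[k] Y) (hv : Function.Surjective v)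
    (h : ∀ t, u t = 0 ↔ v t = 0) : ∃ e : X ≃ₐ[k] Y, ∀ t, e (u t) = v t := by
  obtain ⟨w, hw⟩ := exists_lift_of_surjective u hu v fun t => (h t).1
  refine ⟨AlgEquiv.ofBijective w ⟨?_, ?_⟩, hw⟩
  · rw [injective_iff_map_eq_zero]
    intro x hx
    obtain ⟨t, rfl⟩ := hu x
    rw [hw] at hx
    exact (h t).2 hx
  · intro y
    obtain ⟨t, rfl⟩ := hv y
    exact ⟨u t, hw t⟩

end Alg

lemma map_mem_pow_iff {X : Type u} {Y : Type v} [CommRing X] [CommRing Y] (π : X →+* Y)
    (hπ : Function.Surjective π) (I : Ideal X) (n : ℕ) (x : X) :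
    π x ∈ (I.map π) ^ n ↔ x ∈ I ^ n ⊔ RingHom.ker π := by
  rw [← Ideal.map_pow, ← Ideal.mem_comap, Ideal.comap_map_of_surjective π hπ, RingHom.ker_eq_comap_bot]

/-- Lifting elements of powers of an extended ideal. -/
lemma exists_of_mem_pow {A : Type u} {B : Type v} [CommRing A] [CommRing B] (φ : A →+* B) (I : Ideal A)
    (hs : ∀ b : B, ∃ a : A, b - φ a ∈ I.map φ) (n : ℕ) :
    ∀ b ∈ (I.map φ) ^ n, ∃ a ∈ I ^ n, b - φ a ∈ (I.map φ) ^ (n + 1) := by
  intro b hb
  rw [← Ideal.map_pow] at hb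
  refine Submodule.span_induction (p := fun b _ => ∃ a ∈ I ^ n, b - φ a ∈ (I.map φ) ^ (n + 1)) ?_ ?_ ?_ ?_ hb
  · rintro _ ⟨a, ha, rfl⟩
    exact ⟨a, ha, by rw [sub_self]; exact Submodule.zero_mem _⟩
  · exact ⟨0, Submodule.zero_mem _, by rw [map_zero, sub_self]; exact Submodule.zero_mem _⟩
  · rintro x y - - ⟨a, ha, ha'⟩ ⟨b, hb, hb'⟩
    refine ⟨a + b, Ideal.add_mem _ ha hb, ?_⟩
    rw [map_add, add_sub_add_comm]
    exact Ideal.add_mem _ ha' hb'
  · rintro e x - ⟨a, ha, ha'⟩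
    obtain ⟨b, hb⟩ := hs e
    refine ⟨b * a, Ideal.mul_mem_left _ _ ha, ?_⟩
    have h3 : φ a ∈ (I.map φ) ^ n := by
      rw [← Ideal.map_pow]
      exact Ideal.mem_map_of_mem _ ha
    have e1 : e • x - φ (b * a) = e * (x - φ a) + φ a * (e - φ b) := by
      rw [smul_eq_mul, map_mul]; ring
    rw [e1]
    refine Ideal.add_mem _ (Ideal.mul_mem_left _ _ ha') ?_
    rw [pow_succ]
    exact Ideal.mul_mem_mul h3 hb

section Nbd

variable {A : Type u} [CommRing A] (m : Ideal A) {E : Type v} [CommRing E] [Algebra A E]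
  [Algebra.FormallyUnramified A E] (θ : E →ₐ[A] AdicCompletion m A) {r : ℕ} (fE : Fin r → E)

lemma mem_sup_iff (n : ℕ) (a : A) :
    algebraMap A E a ∈ mE m θ ^ n ⊔ Ideal.span (Set.range fE) ↔
      algebraMap A (AdicCompletion m A) a ∈ hat m n ⊔ Ideal.span (Set.range fun l => θ (fE l)) := by
  constructor
  · intro h
    obtain ⟨x, hx, y, hy, hxy⟩ := Submodule.mem_sup.1 h
    rw [← θ.commutes, ← hxy, map_add]
    refine Ideal.add_mem _ (Ideal.mem_sup_left (map_pow_le_hat m θ n hx)) (Ideal.mem_sup_right ?_)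
    have h1 : Ideal.span (Set.range fE) ≤ (Ideal.span (Set.range fun l => θ (fE l))).comap θ := by
      rw [Ideal.span_le]
      rintro _ ⟨l, rfl⟩
      exact Ideal.subset_span ⟨l, rfl⟩
    exact h1 hy
  · intro h
    obtain ⟨x, hx, y, hy, hxy⟩ := Submodule.mem_sup.1 h
    obtain ⟨u, hu⟩ := (Ideal.mem_span_range_iff_exists_fun).1 hy
    choose a' ha' using fun l => exists_sub_mem_hat m n (u l)
    have h2 : algebraMap A E a - ∑ l, algebraMap A E (a' l) * fE l ∈ mE m θ ^ n := by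
      rw [← mem_hat_iff, map_sub, map_sum, θ.commutes, ← hxy, ← hu]
      have e1 : x + ∑ l, u l * θ (fE l) - ∑ l, θ (algebraMap A E (a' l) * fE l) =
          x + ∑ l, (u l - algebraMap A _ (a' l)) * θ (fE l) := by
        rw [add_sub_assoc, ← Finset.sum_sub_distrib]
        congr 1
        refine Finset.sum_congr rfl fun l _ => ?_
        rw [map_mul, θ.commutes]
        ring
      rw [e1]
      refine Ideal.add_mem _ hx (Ideal.sum_mem _ fun l _ => Ideal.mul_mem_right _ _ (ha' l))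
    have h3 : ∑ l, algebraMap A E (a' l) * fE l ∈ Ideal.span (Set.range fE) :=
      Ideal.sum_mem _ fun l _ => Ideal.mul_mem_left _ _ (Ideal.subset_span ⟨l, rfl⟩)
    have e2 : algebraMap A E a = (algebraMap A E a - ∑ l, algebraMap A E (a' l) * fE l) +
        ∑ l, algebraMap A E (a' l) * fE l := by ring
    rw [e2]
    exact Ideal.add_mem _ (Ideal.mem_sup_left h2) (Ideal.mem_sup_right h3)

/-- Membership of elements of `A` in the powers of the maximal ideal of the quotient. -/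
lemma quot_mem_iff (n : ℕ) (a : A) :
    Ideal.Quotient.mk (Ideal.span (Set.range fE)) (algebraMap A E a) ∈
      ((mE m θ).map (Ideal.Quotient.mk (Ideal.span (Set.range fE)))) ^ n ↔
      algebraMap A (AdicCompletion m A) a ∈ hat m n ⊔ Ideal.span (Set.range fun l => θ (fE l)) := by
  rw [map_mem_pow_iff _ Ideal.Quotient.mk_surjective, Ideal.mk_ker]
  exact mem_sup_iff m θ fE n a

lemma quot_exists_of_mem_pow (n : ℕ) (J : Ideal E) :
    ∀ b ∈ ((mE m θ).map (Ideal.Quotient.mk J)) ^ n, ∃ a ∈ m ^ n,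
      b - Ideal.Quotient.mk J (algebraMap A E a) ∈ ((mE m θ).map (Ideal.Quotient.mk J)) ^ (n + 1) := by
  intro b hb
  rw [← Ideal.map_pow] at hb
  obtain ⟨e, he, rfl⟩ := (Ideal.mem_map_iff_of_surjective _ Ideal.Quotient.mk_surjective).1 hb
  obtain ⟨a, ha, hae⟩ := EtNbd.exists_of_mem_pow m θ n e he
  refine ⟨a, ha, ?_⟩
  rw [← map_sub, ← Ideal.map_pow]
  exact Ideal.mem_map_of_mem _ hae

end Nbd

end K724.Approx
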