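import Groth.Agent.Algz.K724.EtNbd
import Groth.Agent.ArtFun.K725.Completion
import Mathlib.RingTheory.AdicCompletion.Functoriality
import Mathlib.RingTheory.MvPolynomial.Basic

/-!
Complete local algebras with residue field `k` as quotients of completed polynomial rings (helper724).
-/

set_option autoImplicit false
universe u v

namespace K724.Pres

open IsLocalRing K724.EtNbd

/-- The ideals `hat m n` are the powers of the extended ideal. -/
lemma hat_eq_pow {T : Type u} [CommRing T] (m : Ideal T) (hfg : m.FG) (n : ℕ) :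
    hat m n = (m.map (algebraMap T (AdicCompletion m T))) ^ n := by
  have h1 : ∀ n, (m.map (algebraMap T (AdicCompletion m T))) ^ n ≤ hat m n := by
    intro n
    rw [← Ideal.map_pow, Ideal.map_le_iff_le_comap]
    intro a ha
    rw [Ideal.mem_comap, algebraMap_mem_hat]
    exact ha
  refine le_antisymm ?_ (h1 n)
  intro x hx
  rw [← Ideal.map_pow, ← Submodule.restrictScalars_mem T, ← Ideal.smul_top_eq_map,
    AdicCompletion.pow_smul_top_eq_ker_eval hfg, LinearMap.mem_ker]
  have h : (m ^ n) ≤ (m ^ n • ⊤ : Ideal T) := by simp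
  rw [← AdicCompletion.factor_evalₐ_eq_eval m _ h]
  rw [mem_hat] at hx
  rw [hx, map_zero]

/-- The residue map of a local algebra with residue field `k`. -/
lemma exists_res (k : Type u) [Field k] (R : Type v) [CommRing R] [Algebra k R] [IsLocalRing R]
    (hres : Function.Surjective (fun c : k => residue R (algebraMap k R c))) :
    ∃ γ : R →ₐ[k] k, RingHom.ker γ = maximalIdeal R := by
  let g : k →ₐ[k] ResidueField R := Algebra.ofId k (ResidueField R)
  have hg : Function.Bijective g := ⟨(g : k →+* ResidueField R).injective, hres⟩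
  let e := AlgEquiv.ofBijective g hg
  refine ⟨e.symm.toAlgHom.comp (IsScalarTower.toAlgHom k R (ResidueField R)), ?_⟩
  ext x
  rw [RingHom.mem_ker]
  change e.symm (residue R x) = 0 ↔ _
  rw [AlgEquiv.symm_apply_eq, map_zero, residue_eq_zero_iff]

variable (k : Type u) [Field k] (R : Type u) [CommRing R] [Algebra k R] [IsLocalRing R] [IsNoetherianRing R]
    [IsAdicComplete (maximalIdeal R) R]

/-- A complete local algebra with residue field `k` is a quotient of a completed polynomial ring. -/
theorem exists_pres (hres : Function.Surjective (fun c : k => residue R (algebraMap k R c))) :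
    ∃ (n : ℕ) (ρ : MvPolynomial (Fin n) k →ₐ[k] k) (π : AdicCompletion (RingHom.ker ρ) (MvPolynomial (Fin n) k) →ₐ[k] R),
      Function.Surjective ρ ∧ Function.Surjective π ∧
      (RingHom.ker ρ).map (π.toRingHom.comp (algebraMap (MvPolynomial (Fin n) k)
        (AdicCompletion (RingHom.ker ρ) (MvPolynomial (Fin n) k)))) = maximalIdeal R ∧
      RingHom.ker π ≤ hat (RingHom.ker ρ) 1 := by
  obtain ⟨γ, hγ⟩ := exists_res k R hres
  obtain ⟨n, r, hr⟩ := Submodule.fg_iff_exists_fin_generating_family.1 (IsNoetherian.noetherian (maximalIdeal R))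
  have hrm : ∀ i, r i ∈ maximalIdeal R := fun i => by rw [← hr]; exact Submodule.subset_span ⟨i, rfl⟩
  let ρ : MvPolynomial (Fin n) k →ₐ[k] k := MvPolynomial.aeval (fun _ => 0)
  let φ₀ : MvPolynomial (Fin n) k →ₐ[k] R := MvPolynomial.aeval r
  have hρ : Function.Surjective ρ := fun c => ⟨MvPolynomial.C c, MvPolynomial.algHom_C _ _⟩
  have hγφ : γ.comp φ₀ = ρ := by
    apply MvPolynomial.algHom_ext
    intro i
    rw [AlgHom.comp_apply, MvPolynomial.aeval_X, MvPolynomial.aeval_X]
    have h1 := hrm i
    rw [← hγ, RingHom.mem_ker] at h1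
    exact h1
  haveI : IsAdicComplete (RingHom.ker γ) R := by rw [hγ]; infer_instance
  obtain ⟨π, hπ, hπγ⟩ := K725.Completion.exists_extend ρ hρ γ φ₀ hγφ
  have hfg : (RingHom.ker ρ).FG := IsNoetherian.noetherian _
  have hπφ : ∀ a, π (algebraMap _ _ a) = φ₀ a := fun a => DFunLike.congr_fun hπ a
  have hm : (RingHom.ker ρ).map (π.toRingHom.comp (algebraMap (MvPolynomial (Fin n) k)
        (AdicCompletion (RingHom.ker ρ) (MvPolynomial (Fin n) k)))) = maximalIdeal R := by
    apply le_antisymm
    · rw [Ideal.map_le_iff_le_comap]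
      intro a ha
      rw [Ideal.mem_comap]
      change π (algebraMap _ _ a) ∈ _
      rw [hπφ, ← hγ, RingHom.mem_ker]
      exact (DFunLike.congr_fun hγφ a).trans ha
    · conv_lhs => rw [← hr]
      rw [Submodule.span_le]
      rintro _ ⟨i, rfl⟩
      have h1 : r i = π.toRingHom.comp (algebraMap (MvPolynomial (Fin n) k)
        (AdicCompletion (RingHom.ker ρ) (MvPolynomial (Fin n) k))) (MvPolynomial.X i) := by
        change r i = π (algebraMap _ _ _)
        rw [hπφ]
        exact (MvPolynomial.aeval_X _ _).symm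
      rw [h1]
      apply Ideal.mem_map_of_mem
      exact MvPolynomial.aeval_X _ _
  refine ⟨n, ρ, π, hρ, ?_, hm, ?_⟩
  · let I₀ := (RingHom.ker ρ).map (algebraMap (MvPolynomial (Fin n) k)
        (AdicCompletion (RingHom.ker ρ) (MvPolynomial (Fin n) k)))
    have hI₀ : I₀.map π.toRingHom = maximalIdeal R := by
      rw [← hm, ← Ideal.map_map]
    haveI : IsAdicComplete I₀ (AdicCompletion (RingHom.ker ρ) (MvPolynomial (Fin n) k)) :=
      AdicCompletion.isAdicComplete_self (RingHom.ker ρ) hfg
    haveI : IsHausdorff (I₀.map π.toRingHom) R := by rw [hI₀]; infer_instance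
    apply surjective_of_mk_map_comp_surjective (I := I₀) π.toRingHom
    intro x
    obtain ⟨y, rfl⟩ := Ideal.Quotient.mk_surjective x
    refine ⟨algebraMap k _ (γ y), ?_⟩
    rw [RingHom.comp_apply]
    symm
    rw [Ideal.Quotient.eq, hI₀, ← hγ, RingHom.mem_ker]
    change γ (y - π (algebraMap k _ (γ y))) = 0
    rw [AlgHom.commutes, map_sub, AlgHom.commutes, sub_eq_zero]
    rfl
  · intro x hx
    have h1 : K725.Completion.cplRes ρ hρ x = 0 := by
      rw [← hπγ, AlgHom.comp_apply]
      have : π x = 0 := hx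
      rw [this, map_zero]
    have h2 : x ∈ RingHom.ker (K725.Completion.cplRes ρ hρ) := h1
    rw [K725.Completion.ker_cplRes ρ hρ hfg] at h2
    rw [hat_eq_pow _ hfg, pow_one]
    exact h2

end K724.Pres
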