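import Mathlib.RingTheory.AdicCompletion.Algebra
import Mathlib.RingTheory.Etale.Basic
import Mathlib.RingTheory.Unramified.Basic

/-!
Étale algebras with a map to the completion at a maximal ideal: comparison of the powers of the
corresponding maximal ideal (helper724).
-/

set_option autoImplicit false
universe u v

namespace K724.EtNbd

section Ev

variable {A : Type u} [CommRing A] (m : Ideal A)

lemma factor_eval {k n : ℕ} (h : k ≤ n) (x : AdicCompletion m A) :
    Ideal.Quotient.factorPow m h (AdicCompletion.evalₐ m n x) = AdicCompletion.evalₐ m k x := by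
  obtain ⟨y, rfl⟩ := AdicCompletion.mk_surjective m A x
  rw [AdicCompletion.evalₐ_mk, AdicCompletion.evalₐ_mk, ← AdicCompletion.Ideal.mk_eq_mk m h y]
  rfl

lemma eval_algebraMap (n : ℕ) (a : A) :
    AdicCompletion.evalₐ m n (algebraMap A (AdicCompletion m A) a) = Ideal.Quotient.mk _ a := by
  rw [AlgHom.commutes]
  rfl

lemma eval_algebraMap_eq_zero (n : ℕ) (a : A) :
    AdicCompletion.evalₐ m n (algebraMap A (AdicCompletion m A) a) = 0 ↔ a ∈ m ^ n := by
  rw [eval_algebraMap, Ideal.Quotient.eq_zero_iff_mem]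

lemma eval_eq_zero_of_le {k n : ℕ} (h : k ≤ n) {x : AdicCompletion m A} (hx : AdicCompletion.evalₐ m n x = 0) :
    AdicCompletion.evalₐ m k x = 0 := by
  rw [← factor_eval m h, hx, map_zero]

/-- The ideal of elements which vanish modulo `m ^ n`. -/
noncomputable def hat (n : ℕ) : Ideal (AdicCompletion m A) := RingHom.ker (AdicCompletion.evalₐ m n).toRingHom

lemma mem_hat {n : ℕ} {x : AdicCompletion m A} : x ∈ hat m n ↔ AdicCompletion.evalₐ m n x = 0 := Iff.rfl

lemma hat_anti {k n : ℕ} (h : k ≤ n) : hat m n ≤ hat m k := fun _ hx => eval_eq_zero_of_le m h hx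

lemma algebraMap_mem_hat {n : ℕ} {a : A} : algebraMap A (AdicCompletion m A) a ∈ hat m n ↔ a ∈ m ^ n :=
  eval_algebraMap_eq_zero m n a

lemma exists_sub_mem_hat (n : ℕ) (x : AdicCompletion m A) : ∃ a : A, x - algebraMap A _ a ∈ hat m n := by
  obtain ⟨a, ha⟩ := Ideal.Quotient.mk_surjective (AdicCompletion.evalₐ m n x)
  refine ⟨a, ?_⟩
  rw [mem_hat, map_sub, eval_algebraMap, ha, sub_self]

lemma hat_mul_hat_le (i j : ℕ) : hat m i * hat m j ≤ hat m (i + j) := by
  rw [Ideal.mul_le]
  intro x hx y hy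
  obtain ⟨a, ha⟩ := exists_sub_mem_hat m (i + j) x
  obtain ⟨b, hb⟩ := exists_sub_mem_hat m (i + j) y
  have ha' : a ∈ m ^ i := by
    rw [← algebraMap_mem_hat]
    have := (hat m i).sub_mem hx (hat_anti m (Nat.le_add_right i j) ha)
    rwa [sub_sub_cancel] at this
  have hb' : b ∈ m ^ j := by
    rw [← algebraMap_mem_hat]
    have := (hat m j).sub_mem hy (hat_anti m (Nat.le_add_left j i) hb)
    rwa [sub_sub_cancel] at this
  have e : x * y = (x - algebraMap A _ a) * y + algebraMap A _ a * (y - algebraMap A _ b) +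
      algebraMap A _ (a * b) := by
    rw [map_mul]; ring
  rw [e]
  refine (hat m (i + j)).add_mem ((hat m (i + j)).add_mem ?_ ?_) ?_
  · exact Ideal.mul_mem_right _ _ ha
  · exact Ideal.mul_mem_left _ _ hb
  · rw [algebraMap_mem_hat, pow_add]
    exact Ideal.mul_mem_mul ha' hb'

lemma hat_zero : hat m 0 = ⊤ := by
  rw [Ideal.eq_top_iff_one, mem_hat, map_one]
  rw [← map_one (Ideal.Quotient.mk (m ^ 0)), Ideal.Quotient.eq_zero_iff_mem, pow_zero, Ideal.one_eq_top]
  exact Submodule.mem_top

end Ev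

variable {A : Type u} [CommRing A] (m : Ideal A) {E : Type v} [CommRing E] [Algebra A E]
  (θ : E →ₐ[A] AdicCompletion m A)

/-- The ideal of `E` of elements vanishing modulo the maximal ideal of the completion. -/
noncomputable def mE : Ideal E := (hat m 1).comap θ

lemma mem_mE {e : E} : e ∈ mE m θ ↔ θ e ∈ hat m 1 := Iff.rfl

lemma map_pow_le_hat (n : ℕ) : (mE m θ) ^ n ≤ (hat m n).comap θ := by
  induction n with
  | zero => rw [hat_zero]; exact fun _ _ => Submodule.mem_top
  | succ n ih =>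
    rw [pow_succ, Ideal.mul_le]
    intro x hx y hy
    rw [Ideal.mem_comap, map_mul]
    exact hat_mul_hat_le m n 1 (Ideal.mul_mem_mul (ih hx) hy)

lemma map_le_mE : m.map (algebraMap A E) ≤ mE m θ := by
  rw [Ideal.map_le_iff_le_comap]
  intro a ha
  rw [Ideal.mem_comap, mem_mE, θ.commutes, algebraMap_mem_hat, pow_one]
  exact ha

lemma exists_sub_mem_mE (e : E) : ∃ a : A, e - algebraMap A E a ∈ mE m θ := by
  obtain ⟨a, ha⟩ := exists_sub_mem_hat m 1 (θ e)
  refine ⟨a, ?_⟩
  rw [mem_mE, map_sub, θ.commutes]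
  exact ha

lemma algebraMap_mem_mE_iff {a : A} : algebraMap A E a ∈ mE m θ ↔ a ∈ m := by
  rw [mem_mE, θ.commutes, algebraMap_mem_hat, pow_one]

/-- If `E` is unramified over `A` then the ideal is generated by `m` up to its square. -/
lemma mE_le [Algebra.FormallyUnramified A E] : mE m θ ≤ m.map (algebraMap A E) ⊔ mE m θ ^ 2 := by
  set J := m.map (algebraMap A E) ⊔ mE m θ ^ 2 with hJ
  -- two maps `E → E / J`
  have hJle : J ≤ mE m θ := sup_le (map_le_mE m θ) (Ideal.pow_le_self two_ne_zero)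
  let q : E →ₐ[A] E ⧸ J := Ideal.Quotient.mkₐ A J
  -- the map through `A / m`
  choose s hs using exists_sub_mem_mE m θ
  have hker : ∀ a ∈ m, (Algebra.ofId A (E ⧸ J)) a = 0 := by
    intro a ha
    change algebraMap A (E ⧸ J) a = 0
    rw [IsScalarTower.algebraMap_apply A E (E ⧸ J)]
    exact Ideal.Quotient.eq_zero_iff_mem.2 (Ideal.mem_sup_left (Ideal.mem_map_of_mem _ ha))
  let t : (A ⧸ m) →ₐ[A] E ⧸ J := Ideal.Quotient.liftₐ m (Algebra.ofId A (E ⧸ J)) hker
  let u₀ : E →ₐ[A] A ⧸ m ^ 1 := (AdicCompletion.evalₐ m 1).restrictScalars A |>.comp θ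
  have hle1 : m ^ 1 ≤ m := by rw [pow_one]
  let u : E →ₐ[A] A ⧸ m := (Ideal.Quotient.factorₐ A hle1).comp u₀
  have hu : ∀ e, u e = Ideal.Quotient.mk m (s e) := by
    intro e
    have h1 : u₀ e = Ideal.Quotient.mk (m ^ 1) (s e) := by
      have h2 : u₀ (e - algebraMap A E (s e)) = 0 := hs e
      rw [map_sub, sub_eq_zero, AlgHom.commutes] at h2
      exact h2
    change Ideal.Quotient.factorₐ A hle1 (u₀ e) = _
    rw [h1]
    rfl
  let q' : E →ₐ[A] E ⧸ J := t.comp u
  have hq' : ∀ e, q' e = Ideal.Quotient.mk J (algebraMap A E (s e)) := by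
    intro e
    change t (u e) = _
    rw [hu]
    rfl
  have hnil : IsNilpotent ((mE m θ).map (Ideal.Quotient.mk J)) := by
    refine ⟨2, ?_⟩
    rw [Ideal.zero_eq_bot, ← Ideal.map_pow, Ideal.map_eq_bot_iff_le_ker, Ideal.mk_ker]
    exact le_sup_right
  have hqq : q = q' := by
    apply Algebra.FormallyUnramified.ext ((mE m θ).map (Ideal.Quotient.mk J)) hnil
    intro e
    rw [Ideal.Quotient.eq, hq']
    change Ideal.Quotient.mk J e - Ideal.Quotient.mk J (algebraMap A E (s e)) ∈ _
    rw [← map_sub]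
    exact Ideal.mem_map_of_mem _ (hs e)
  intro e he
  have h3 : algebraMap A E (s e) ∈ m.map (algebraMap A E) := by
    apply Ideal.mem_map_of_mem
    rw [← algebraMap_mem_mE_iff m θ]
    have := (mE m θ).sub_mem he (hs e)
    rwa [sub_sub_cancel] at this
  have h4 : Ideal.Quotient.mk J e = Ideal.Quotient.mk J (algebraMap A E (s e)) := by
    rw [← hq']
    exact DFunLike.congr_fun hqq e
  rw [Ideal.Quotient.eq] at h4
  have := J.add_mem h4 (Ideal.mem_sup_left h3)
  rwa [sub_add_cancel] at this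

/-- Elements of the powers of the ideal come from `A` up to the next power. -/
lemma exists_of_mem_pow [Algebra.FormallyUnramified A E] (n : ℕ) :
    ∀ e ∈ mE m θ ^ n, ∃ a ∈ m ^ n, e - algebraMap A E a ∈ mE m θ ^ (n + 1) := by
  have h1 : ∀ n : ℕ, mE m θ ^ n ≤ (m ^ n).map (algebraMap A E) ⊔ mE m θ ^ (n + 1) := by
    intro n
    induction n with
    | zero =>
      rw [pow_zero, pow_zero, Ideal.one_eq_top, Ideal.one_eq_top, Ideal.map_top, top_sup_eq]
    | succ n ih =>
      rw [pow_succ]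
      refine (Ideal.mul_mono ih (mE_le m θ)).trans ?_
      rw [Ideal.sup_mul, Ideal.mul_sup, Ideal.mul_sup]
      refine sup_le (sup_le ?_ ?_) (sup_le ?_ ?_)
      · rw [← Ideal.map_mul, ← pow_succ]
        exact le_sup_left
      · refine le_trans ?_ le_sup_right
        have : (m ^ n).map (algebraMap A E) ≤ mE m θ ^ n := by
          rw [Ideal.map_pow]
          exact Ideal.pow_right_mono (map_le_mE m θ) n
        refine (Ideal.mul_mono_left this).trans ?_
        rw [← pow_add]
      · refine le_trans ?_ le_sup_right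
        refine (Ideal.mul_mono_right (map_le_mE m θ)).trans ?_
        rw [← pow_succ]
      · refine le_trans ?_ le_sup_right
        rw [← pow_add]
        exact Ideal.pow_le_pow_right (by omega)
  intro e he
  obtain ⟨x, hx, y, hy, rfl⟩ := Submodule.mem_sup.1 (h1 n he)
  have h2 : ∀ x ∈ (m ^ n).map (algebraMap A E), ∃ a ∈ m ^ n, x - algebraMap A E a ∈ mE m θ ^ (n + 1) := by
    intro x hx
    refine Submodule.span_induction (p := fun x _ => ∃ a ∈ m ^ n, x - algebraMap A E a ∈ mE m θ ^ (n + 1))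
      ?_ ?_ ?_ ?_ hx
    · rintro _ ⟨a, ha, rfl⟩
      exact ⟨a, ha, by rw [sub_self]; exact Submodule.zero_mem _⟩
    · exact ⟨0, Submodule.zero_mem _, by rw [map_zero, sub_self]; exact Submodule.zero_mem _⟩
    · rintro x y - - ⟨a, ha, ha'⟩ ⟨b, hb, hb'⟩
      refine ⟨a + b, Ideal.add_mem _ ha hb, ?_⟩
      rw [map_add, add_sub_add_comm]
      exact Ideal.add_mem _ ha' hb'
    · rintro e x - ⟨a, ha, ha'⟩
      obtain ⟨b, hb⟩ := exists_sub_mem_mE m θ e
      refine ⟨b * a, Ideal.mul_mem_left _ _ ha, ?_⟩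
      have h3 : algebraMap A E a ∈ mE m θ ^ n := by
        have : (m ^ n).map (algebraMap A E) ≤ mE m θ ^ n := by
          rw [Ideal.map_pow]
          exact Ideal.pow_right_mono (map_le_mE m θ) n
        exact this (Ideal.mem_map_of_mem _ ha)
      have e1 : e • x - algebraMap A E (b * a) = e * (x - algebraMap A E a) +
          algebraMap A E a * (e - algebraMap A E b) := by
        rw [smul_eq_mul, map_mul]; ring
      rw [e1]
      refine Ideal.add_mem _ (Ideal.mul_mem_left _ _ ha') ?_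
      rw [pow_succ]
      exact Ideal.mul_mem_mul h3 hb
  obtain ⟨a, ha, ha'⟩ := h2 x hx
  refine ⟨a, ha, ?_⟩
  rw [add_sub_right_comm]
  exact Ideal.add_mem _ ha' hy

/-- `E` is `A` up to any power of the ideal. -/
lemma exists_sub_mem_pow [Algebra.FormallyUnramified A E] (n : ℕ) (e : E) :
    ∃ a : A, e - algebraMap A E a ∈ mE m θ ^ n := by
  induction n with
  | zero => exact ⟨0, by rw [pow_zero, Ideal.one_eq_top]; exact Submodule.mem_top⟩
  | succ n ih =>
    obtain ⟨a, ha⟩ := ih
    obtain ⟨b, -, hb⟩ := exists_of_mem_pow m θ n _ ha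
    refine ⟨a + b, ?_⟩
    rw [map_add, ← sub_sub]
    exact hb

/-- The powers of the ideal are the preimages of the ideals of the completion. -/
theorem mem_hat_iff [Algebra.FormallyUnramified A E] (n : ℕ) (e : E) : θ e ∈ hat m n ↔ e ∈ mE m θ ^ n := by
  refine ⟨fun h => ?_, fun h => map_pow_le_hat m θ n h⟩
  obtain ⟨a, ha⟩ := exists_sub_mem_pow m θ n e
  have h1 := map_pow_le_hat m θ n ha
  rw [Ideal.mem_comap, map_sub, θ.commutes] at h1
  have h2 : a ∈ m ^ n := by
    rw [← algebraMap_mem_hat]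
    have := (hat m n).sub_mem h h1
    rwa [sub_sub_cancel] at this
  have h3 : algebraMap A E a ∈ mE m θ ^ n := by
    have : (m ^ n).map (algebraMap A E) ≤ mE m θ ^ n := by
      rw [Ideal.map_pow]
      exact Ideal.pow_right_mono (map_le_mE m θ) n
    exact this (Ideal.mem_map_of_mem _ h2)
  have := Ideal.add_mem _ ha h3
  rwa [sub_add_cancel] at this

end K724.EtNbd
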